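import Mathlib

set_option autoImplicit false
set_option linter.unusedSectionVars false

/-!
# Covers with the same element orders

Elementary arguments which show that the kernel of a surjective homomorphism `π : X →* L` is trivial, when it is
soluble and `X` has no elements of order `8`, `4 p`, `2 r`.

* `exists_orderOf_of_surj`: element orders of quotients are element orders.
* `even_cover`: the kernel is elementary abelian of exponent 2.
* `odd_cover`: the kernel is elementary abelian of odd prime exponent.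
* `exists_elem`: a soluble normal subgroup has an elementary abelian quotient.
* `cover`: the combination.
-/

namespace Cfsg.Agent.H375.Cover

/-- Element orders of a homomorphic image are element orders. -/
theorem exists_orderOf_of_surj {X L : Type*} [Group X] [Finite X] [Group L] (π : X →* L)
    (hπ : Function.Surjective π) (g : L) : ∃ x : X, orderOf x = orderOf g := by
  obtain ⟨x, rfl⟩ := hπ g
  have h1 : orderOf (π x) ∣ orderOf x := orderOf_map_dvd π x
  obtain ⟨k, hk⟩ := h1
  have hpos := orderOf_pos x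
  have hk0 : k ≠ 0 := by rintro rfl; omega
  refine ⟨x ^ k, ?_⟩
  rw [orderOf_pow' x hk0, hk, Nat.gcd_mul_left_left, Nat.mul_div_cancel _ (Nat.pos_of_ne_zero hk0)]

/-- the module argument for `even_cover`. -/
theorem module_even {A : Type*} [CommGroup A] (h2 : ∀ a : A, a * a = 1) (g t : MulAut A)
    (hN : ∀ a, a * g a * g (g a) * g (g (g a)) = 1) {k : ℕ} (ht : t ^ (2 * k + 1) = 1)
    (hgt : ∀ a, g (g (t a)) = t⁻¹ (g (g a))) (hfix : ∀ a, t a = a → a = 1) (a : A) : a = 1 := by
  have h2' : ∀ a b : A, a * b = 1 → b = a := by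
    intro a b h
    have h3 : a * b = a * a := by rw [h, h2]
    exact mul_left_cancel h3
  have hpow : ∀ (i : ℕ) (a : A), g (g ((t ^ i) a)) = (t ^ i)⁻¹ (g (g a)) := by
    intro i
    induction i with
    | zero => intro a; simp
    | succ i ih =>
      intro a
      have e1 : (t ^ (i + 1)) a = (t ^ i) (t a) := by rw [pow_succ]; rfl
      have e2 : (t ^ (i + 1))⁻¹ (g (g a)) = (t ^ i)⁻¹ (t⁻¹ (g (g a))) := by
        rw [pow_succ', mul_inv_rev]; rfl
      rw [e1, ih, hgt, e2]
  have step3 : ∀ a, g (g a) = a → g a = a := by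
    intro a ha
    have hs : ∏ i ∈ Finset.range (2 * k + 1), (t ^ i) a = 1 := by
      apply hfix
      rw [map_prod]
      have e1 : ∀ i, t ((t ^ i) a) = (t ^ (i + 1)) a := by
        intro i; rw [pow_succ']; rfl
      simp_rw [e1]
      have e2 := Finset.prod_range_succ (fun i => (t ^ i) a) (2 * k + 1)
      have e3 := Finset.prod_range_succ' (fun i => (t ^ i) a) (2 * k + 1)
      rw [e2, ht, pow_zero] at e3
      exact (mul_right_cancel e3).symm
    have hsplit : ∏ i ∈ Finset.range (2 * k + 1), (t ^ i) a =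
        (∏ i ∈ Finset.range k, ((t ^ (i + 1)) a * (t ^ (i + 1))⁻¹ a)) * a := by
      rw [Finset.prod_range_succ', pow_zero, two_mul, Finset.prod_range_add, Finset.prod_mul_distrib]
      congr 1
      congr 1
      rw [← Finset.prod_range_reflect]
      apply Finset.prod_congr rfl
      intro i hi
      rw [Finset.mem_range] at hi
      have e : t ^ (k + (k - 1 - i) + 1) = (t ^ (i + 1))⁻¹ := by
        rw [eq_inv_iff_mul_eq_one, ← pow_add]
        have : k + (k - 1 - i) + 1 + (i + 1) = 2 * k + 1 := by omega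
        rw [this, ht]
      rw [e]
    set u := ∏ i ∈ Finset.range k, (t ^ (i + 1)) a with hu
    have hzu : g (g u) = ∏ i ∈ Finset.range k, (t ^ (i + 1))⁻¹ a := by
      rw [hu, map_prod, map_prod]
      apply Finset.prod_congr rfl
      intro i _
      rw [hpow, ha]
    rw [hsplit, Finset.prod_mul_distrib, ← hu, ← hzu] at hs
    have ha' : a = u * g (g u) := h2' _ _ hs
    apply h2'
    have := hN u
    rw [ha', map_mul]
    calc u * g (g u) * (g u * g (g (g u))) = u * g u * g (g u) * g (g (g u)) := by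
          rw [mul_mul_mul_comm, ← mul_assoc]
      _ = 1 := this
  have step4 : ∀ a, g (g a) = a := by
    intro a
    have h1 : g (g (a * g a)) = a * g a := by
      apply h2'
      rw [map_mul, map_mul]
      calc a * g a * (g (g a) * g (g (g a))) = a * g a * g (g a) * g (g (g a)) := by rw [← mul_assoc]
        _ = 1 := hN a
    have h3 := step3 _ h1
    rw [map_mul] at h3
    have h4 : g (g a) * g a = a * g a := by rw [← h3, mul_comm]
    exact mul_right_cancel h4
  have ht2 : ∀ a, t a = t⁻¹ a := by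
    intro a
    have h1 := hgt a
    rw [step4, step4] at h1
    exact h1
  have ht2' : t * t = 1 := by
    ext a
    show t (t a) = a
    rw [ht2 (t a)]
    show (t⁻¹ * t) a = a
    rw [inv_mul_cancel]
    rfl
  have ht1 : t = 1 := by
    rw [pow_succ, pow_mul, pow_two, ht2', one_pow, one_mul] at ht
    exact ht
  apply hfix
  rw [ht1]
  rfl

section Even

variable {X L : Type*} [Group X] [Finite X] [Group L] (π : X →* L)

/-- **Kernels of exponent two.**  `x` of order four modulo the kernel, whose square inverts an element `y` of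
odd prime order modulo the kernel. -/
theorem even_cover (hv : ∀ v, π v = 1 → v * v = 1) (h8 : ∀ g : X, orderOf g ≠ 8) {r : ℕ} (hr : r.Prime) (hr2 : r ≠ 2)
    (h2r : ∀ g : X, orderOf g ≠ 2 * r) (x y : X) (hx : π x ^ 4 = 1) (hy : π y ^ r = 1) (hy1 : π y ≠ 1)
    (hxy : π x ^ 2 * π y * (π x ^ 2)⁻¹ = (π y)⁻¹) (v : X) (hv1 : π v = 1) : v = 1 := by
  have hker : ∀ v : X, v ∈ π.ker ↔ π v = 1 := fun v => MonoidHom.mem_ker
  have hcomm : ∀ v w : X, π v = 1 → π w = 1 → v * w = w * v := by
    intro v w hv' hw'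
    have h1 := hv _ hv'
    have h2 := hv _ hw'
    have h3 := hv (v * w) (by rw [map_mul, hv', hw', one_mul])
    calc v * w = (v * w)⁻¹ := (inv_eq_of_mul_eq_one_right h3).symm
      _ = w⁻¹ * v⁻¹ := mul_inv_rev _ _
      _ = w * v := by rw [inv_eq_of_mul_eq_one_right h1, inv_eq_of_mul_eq_one_right h2]
  -- elements over `x` have fourth power one
  have h4 : ∀ w : X, π w ^ 4 = 1 → w ^ 4 = 1 := by
    intro w hw
    have h1 : (w ^ 4) * (w ^ 4) = 1 := hv _ (by rw [map_pow, hw])
    have h3 : w ^ 8 = 1 := by rw [← h1, ← pow_add]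
    have h5 : orderOf w ∣ 2 ^ 3 := orderOf_dvd_of_pow_eq_one h3
    obtain ⟨i, hi, hi2⟩ := (Nat.dvd_prime_pow Nat.prime_two).mp h5
    have hi3 : i ≠ 3 := by
      rintro rfl
      exact h8 w hi2
    apply orderOf_dvd_iff_pow_eq_one.mp
    rw [hi2]
    exact pow_dvd_pow 2 (show i ≤ 2 by omega)
  -- `C(y) = 1`
  have hfix : ∀ w : X, π w = 1 → y * w * y⁻¹ = w → w = 1 := by
    intro w hw hyw
    by_contra hw1
    have hc : Commute w y := by
      show w * y = y * w
      calc w * y = (y * w * y⁻¹) * y := by rw [hyw]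
        _ = y * w := by group
    have : Fact r.Prime := ⟨hr⟩
    have hw2 : orderOf w = 2 := orderOf_eq_prime (by rw [pow_two]; exact hv w hw) hw1
    have hyr : (y ^ r) * (y ^ r) = 1 := hv _ (by rw [map_pow, hy])
    have hodd : Odd r := hr.odd_of_ne_two hr2
    have h5 : orderOf y = r := by
      have h6 : orderOf y ∣ 2 * r := by
        apply orderOf_dvd_of_pow_eq_one
        rw [two_mul, pow_add, hyr]
      have h7 : orderOf (π y) = r := orderOf_eq_prime hy hy1
      have h8 : r ∣ orderOf y := h7 ▸ orderOf_map_dvd π y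
      obtain ⟨c, hc'⟩ := h8
      rw [hc', mul_comm 2 r] at h6
      have h9 : c ∣ 2 := Nat.dvd_of_mul_dvd_mul_left hr.pos h6
      rcases (Nat.dvd_prime Nat.prime_two).mp h9 with rfl | rfl
      · rw [hc', mul_one]
      · exact absurd (by rw [hc', mul_comm]) (h2r y)
    apply h2r (w * y)
    rw [hc.orderOf_mul_eq_mul_orderOf_of_coprime, hw2, h5]
    rw [hw2, h5]
    exact (Nat.coprime_primes Nat.prime_two hr).mpr (Ne.symm hr2)
  -- the module
  let _ : CommGroup π.ker := { (inferInstance : Group π.ker) with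
    mul_comm := fun a b => Subtype.ext (hcomm a b a.2 b.2) }
  let R : X →* MulAut π.ker := MulAut.conjNormal
  have hR : ∀ (z : X) (a : π.ker), ((R z a : π.ker) : X) = z * a * z⁻¹ :=
    fun z a => rfl
  have hR1 : ∀ z : X, π z = 1 → R z = 1 := by
    intro z hz
    ext a
    rw [hR]
    have h1 := hcomm z (a : X) hz a.2
    rw [h1]
    simp
  obtain ⟨k, hk⟩ := hr.odd_of_ne_two hr2
  have key := module_even (A := π.ker) ?_ (R x) (R y) ?_ (k := k) ?_ ?_ ?_ (⟨v, hv1⟩ : π.ker)
  · exact congrArg Subtype.val key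
  · intro a
    apply Subtype.ext
    exact hv _ a.2
  · intro a
    apply Subtype.ext
    obtain ⟨w, hw1⟩ := a
    replace hw1 : π w = 1 := hw1
    show w * (x * w * x⁻¹) * (x * (x * w * x⁻¹) * x⁻¹) * (x * (x * (x * w * x⁻¹) * x⁻¹) * x⁻¹) = 1
    have e1 := h4 x hx
    have e2 := h4 (w * x) (by rw [map_mul, hw1, one_mul, hx])
    calc w * (x * w * x⁻¹) * (x * (x * w * x⁻¹) * x⁻¹) * (x * (x * (x * w * x⁻¹) * x⁻¹) * x⁻¹)
        = (w * x) ^ 4 * (x ^ 4)⁻¹ := by
          simp only [pow_succ, pow_zero, one_mul]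
          group
      _ = 1 := by rw [e1, e2, inv_one, one_mul]
  · rw [← map_pow, ← hk]
    exact hR1 _ (by rw [map_pow, hy])
  · intro a
    have h1 : R (x ^ 2 * y * (x ^ 2)⁻¹ * y) = 1 := by
      apply hR1
      rw [map_mul, map_mul, map_mul, map_inv, map_pow, hxy, inv_mul_cancel]
    have h3 : R x * R x * R y * (R x * R x)⁻¹ * R y = 1 := by
      rw [← h1, map_mul, map_mul, map_mul, map_inv, map_pow, pow_two]
    have h5 : R x * R x * R y = (R y)⁻¹ * (R x * R x) := by
      have := eq_inv_of_mul_eq_one_left h3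
      rw [← this]
      group
    exact congrArg (fun f : MulAut π.ker => f a) h5
  · intro a ha
    apply Subtype.ext
    apply hfix _ a.2
    rw [← hR, ha]

end Even

section Odd

variable {X L : Type*} [Group X] [Finite X] [Group L] (π : X →* L)

/-- `z` is the square of two elements of order four whose product has order four. -/
def FourSq {L : Type*} [Group L] (z : L) : Prop :=
  ∃ x x' : L, orderOf x = 4 ∧ orderOf x' = 4 ∧ orderOf (x * x') = 4 ∧ x ^ 2 = z ∧ x' ^ 2 = z

/-- **Kernels of odd prime exponent.** -/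
theorem odd_cover (hπ : Function.Surjective π) (hcomm : ∀ v w, π v = 1 → π w = 1 → v * w = w * v) {p : ℕ}
    (hp : p.Prime) (hp2 : p ≠ 2) (hv : ∀ v, π v = 1 → v ^ p = 1) (h4p : ∀ g : X, orderOf g ≠ 4 * p) (z₁ z₂ : L)
    (h₁ : FourSq z₁) (h₂ : FourSq z₂) (h₁₂ : FourSq (z₁ * z₂)) (v : X) (hv1 : π v = 1) : v = 1 := by
  have hfp : Fact p.Prime := ⟨hp⟩
  -- elements of order four have no fixed points
  have free : ∀ x : X, orderOf (π x) = 4 → ∀ v, π v = 1 → x * v * x⁻¹ = v → v = 1 := by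
    intro x hx v hv1 hxv
    by_contra hne
    have hx4 : π (x ^ 4) = 1 := by rw [map_pow, ← hx, pow_orderOf_eq_one]
    have h1 : (x ^ p) ^ 4 = 1 := by
      rw [← pow_mul, mul_comm, pow_mul]
      exact hv _ hx4
    have h2 : (x ^ p) ^ 2 ≠ 1 := by
      intro h
      have h3 : (π x) ^ (p * 2) = 1 := by rw [← map_pow, pow_mul, h, map_one]
      have h4 := orderOf_dvd_of_pow_eq_one h3
      rw [hx] at h4
      have h5 : 2 ∣ p := by
        have : 2 * 2 ∣ p * 2 := h4
        exact Nat.dvd_of_mul_dvd_mul_right (by norm_num) this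
      exact hp2 ((Nat.prime_dvd_prime_iff_eq Nat.prime_two hp).mp h5).symm
    have h3 : orderOf (x ^ p) = 4 := by
      have e : (4 : ℕ) = 2 ^ (1 + 1) := by norm_num
      rw [e]
      exact orderOf_eq_prime_pow (by simpa using h2) (by simpa using h1)
    have h4 : orderOf v = p := orderOf_eq_prime (hv v hv1) hne
    have hc : Commute v x := by
      show v * x = x * v
      calc v * x = (x * v * x⁻¹) * x := by rw [hxv]
        _ = x * v := by group
    have hc' : Commute (x ^ p) v := (hc.symm).pow_left p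
    apply h4p (x ^ p * v)
    rw [hc'.orderOf_mul_eq_mul_orderOf_of_coprime, h3, h4]
    rw [h3, h4]
    have : Nat.Coprime (2 ^ 2) p := Nat.Coprime.pow_left 2 ((Nat.coprime_primes Nat.prime_two hp).mpr (Ne.symm hp2))
    exact this
  -- conjugation by an element depends only on its image
  have hdep : ∀ x y v : X, π x = π y → π v = 1 → x * v * x⁻¹ = y * v * y⁻¹ := by
    intro x y v hxy hv1
    have h1 : π (y⁻¹ * x) = 1 := by rw [map_mul, map_inv, hxy, inv_mul_cancel]
    have h2 := hcomm _ _ h1 hv1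
    calc x * v * x⁻¹ = y * ((y⁻¹ * x) * v) * (y⁻¹ * x)⁻¹ * y⁻¹ := by group
      _ = y * (v * (y⁻¹ * x)) * (y⁻¹ * x)⁻¹ * y⁻¹ := by rw [h2]
      _ = y * v * y⁻¹ := by group
  -- squares have no fixed points
  have neg : ∀ z : X, FourSq (π z) → ∀ v, π v = 1 → z * v * z⁻¹ = v → v = 1 := by
    rintro z ⟨x', y', hx, hy, hxy, hxz, hyz⟩ v hv1 hzv
    obtain ⟨x, rfl⟩ := hπ x'
    obtain ⟨y, rfl⟩ := hπ y'
    have inv : ∀ x : X, orderOf (π x) = 4 → π x ^ 2 = π z → x * v * x⁻¹ = v⁻¹ := by
      intro x hx hxz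
      have hπ1 : π (x * v * x⁻¹) = 1 := by rw [map_mul, map_mul, hv1, map_inv, mul_one, mul_inv_cancel]
      have h1 : (x ^ 2) * v * (x ^ 2)⁻¹ = v := by
        rw [hdep (x ^ 2) z v (by rw [map_pow, hxz]) hv1, hzv]
      have h2 : x * (v * (x * v * x⁻¹)) * x⁻¹ = v * (x * v * x⁻¹) := by
        calc x * (v * (x * v * x⁻¹)) * x⁻¹ = (x * v * x⁻¹) * ((x ^ 2) * v * (x ^ 2)⁻¹) := by rw [pow_two]; group
          _ = (x * v * x⁻¹) * v := by rw [h1]
          _ = v * (x * v * x⁻¹) := hcomm _ _ hπ1 hv1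
      have h3 := free x hx _ (by rw [map_mul, hv1, hπ1, one_mul]) h2
      exact (inv_eq_of_mul_eq_one_right h3).symm
    have h1 := inv x hx hxz
    have h2 := inv y hy hyz
    apply free (x * y) (by rw [map_mul]; exact hxy) v hv1
    calc x * y * v * (x * y)⁻¹ = x * (y * v * y⁻¹) * x⁻¹ := by group
      _ = (x * v * x⁻¹)⁻¹ := by rw [h2]; group
      _ = v := by rw [h1, inv_inv]
  -- they invert the kernel
  have inv : ∀ z : X, FourSq (π z) → ∀ v, π v = 1 → z * v * z⁻¹ = v⁻¹ := by
    intro z hz v hv1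
    have hz2 : π (z ^ 2) = 1 := by
      obtain ⟨x, y, hx, -, -, hxz, -⟩ := hz
      rw [map_pow, ← hxz, ← pow_mul, show 2 * 2 = orderOf x by rw [hx], pow_orderOf_eq_one]
    have hπ1 : π (z * v * z⁻¹) = 1 := by rw [map_mul, map_mul, hv1, map_inv, mul_one, mul_inv_cancel]
    have h1 : (z ^ 2) * v * (z ^ 2)⁻¹ = v := by
      rw [hdep (z ^ 2) 1 v (by rw [hz2, map_one]) hv1, one_mul, inv_one, mul_one]
    have h2 : z * (v * (z * v * z⁻¹)) * z⁻¹ = v * (z * v * z⁻¹) := by
      calc z * (v * (z * v * z⁻¹)) * z⁻¹ = (z * v * z⁻¹) * ((z ^ 2) * v * (z ^ 2)⁻¹) := by rw [pow_two]; group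
        _ = (z * v * z⁻¹) * v := by rw [h1]
        _ = v * (z * v * z⁻¹) := hcomm _ _ hπ1 hv1
    have h3 := neg z hz _ (by rw [map_mul, hv1, hπ1, one_mul]) h2
    exact (inv_eq_of_mul_eq_one_right h3).symm
  obtain ⟨w₁, rfl⟩ := hπ z₁
  obtain ⟨w₂, rfl⟩ := hπ z₂
  have e1 := inv w₁ h₁ v hv1
  have e2 := inv w₂ h₂ v hv1
  apply neg (w₁ * w₂) (by rw [map_mul]; exact h₁₂) v hv1
  calc w₁ * w₂ * v * (w₁ * w₂)⁻¹ = w₁ * (w₂ * v * w₂⁻¹) * w₁⁻¹ := by group
    _ = (w₁ * v * w₁⁻¹)⁻¹ := by rw [e2]; group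
    _ = v := by rw [e1, inv_inv]

end Odd

/-- A non-trivial soluble normal subgroup has a non-trivial elementary abelian quotient. -/
theorem exists_elem {G : Type*} [Group G] [Finite G] (K : Subgroup G) [K.Normal] (hK : Group.IsSolvable K)
    (hne : K ≠ ⊥) : ∃ N : Subgroup G, N.Normal ∧ N ≤ K ∧ ¬ K ≤ N ∧ ∃ p : ℕ, p.Prime ∧ p ∣ Nat.card K ∧
      (∀ a ∈ K, ∀ b ∈ K, a * b * a⁻¹ * b⁻¹ ∈ N) ∧ ∀ a ∈ K, a ^ p ∈ N := by
  have hnt : Nontrivial K := (Subgroup.nontrivial_iff_ne_bot K).mpr hne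
  have hlt := Group.IsSolvable.commutator_lt_top_of_nontrivial K
  have hntA : Nontrivial (Abelianization K) := by
    rw [← not_subsingleton_iff_nontrivial]
    intro hs
    apply hlt.ne
    rw [eq_top_iff]
    intro k _
    rw [← Abelianization.ker_of, MonoidHom.mem_ker]
    exact Subsingleton.elim _ _
  have hfA : Finite (Abelianization K) := Finite.of_surjective _ (QuotientGroup.mk'_surjective (commutator K))
  obtain ⟨p, hp, hpA⟩ := Nat.exists_prime_and_dvd (n := Nat.card (Abelianization K))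
    (by rw [Ne, Nat.card_eq_one_iff_unique]; rintro ⟨h, -⟩; exact not_subsingleton _ h)
  have hfp : Fact p.Prime := ⟨hp⟩
  let R : Subgroup (Abelianization K) := (powMonoidHom p).range
  let N : Subgroup G := (R.comap Abelianization.of).map K.subtype
  have hmem : ∀ k : K, (k : G) ∈ N ↔ ∃ b : Abelianization K, b ^ p = Abelianization.of k := by
    intro k
    constructor
    · rintro ⟨k', hk', hkk⟩
      have : k' = k := Subtype.ext hkk
      subst this
      exact hk'
    · intro h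
      exact ⟨k, h, rfl⟩
  refine ⟨N, ⟨?_⟩, Subgroup.map_subtype_le _, ?_, p, hp, ?_, ?_, ?_⟩
  · rintro _ ⟨k, ⟨b, hb⟩, rfl⟩ g
    have e : g * K.subtype k * g⁻¹ = ((MulAut.conjNormal g k : K) : G) := rfl
    rw [e, hmem]
    refine ⟨Abelianization.map ((MulAut.conjNormal g : MulAut K) : K →* K) b, ?_⟩
    rw [← map_pow]
    have hb' : b ^ p = Abelianization.of k := hb
    rw [hb', Abelianization.map_of]
    rfl
  · intro hle
    have hsurj : Function.Surjective (powMonoidHom p : Abelianization K →* Abelianization K) := by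
      intro a
      obtain ⟨k, rfl⟩ := QuotientGroup.mk'_surjective (commutator K) a
      exact (hmem k).mp (hle k.2)
    have hinj := Finite.injective_iff_surjective.mpr hsurj
    obtain ⟨a, ha⟩ := exists_prime_orderOf_dvd_card' (G := Abelianization K) p hpA
    have h1 : (powMonoidHom p : Abelianization K →* Abelianization K) a = powMonoidHom p 1 := by
      rw [map_one, powMonoidHom_apply, ← ha, pow_orderOf_eq_one]
    have h2 := hinj h1
    rw [h2, orderOf_one] at ha
    exact hp.one_lt.ne ha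
  · exact hpA.trans (Subgroup.card_quotient_dvd_card (commutator K))
  · intro a ha b hb
    have : a * b * a⁻¹ * b⁻¹ = (((⟨a, ha⟩ : K) * ⟨b, hb⟩ * ⟨a, ha⟩⁻¹ * ⟨b, hb⟩⁻¹ : K) : G) := rfl
    rw [this, hmem]
    refine ⟨1, ?_⟩
    rw [one_pow, map_mul, map_mul, map_mul, map_inv, map_inv]
    rw [mul_comm (Abelianization.of (⟨a, ha⟩ : K)) (Abelianization.of (⟨b, hb⟩ : K))]
    group
  · intro a ha
    have : a ^ p = (((⟨a, ha⟩ : K) ^ p : K) : G) := rfl
    rw [this, hmem]
    exact ⟨Abelianization.of ⟨a, ha⟩, (map_pow _ _ _).symm⟩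

/-- **The cover theorem.** -/
theorem cover {G L : Type*} [Group G] [Finite G] [Group L] (π : G →* L) (hπ : Function.Surjective π)
    (hsol : Group.IsSolvable π.ker) (h8 : ∀ g : G, orderOf g ≠ 8) {r : ℕ} (hr : r.Prime) (hr2 : r ≠ 2)
    (h2r : ∀ g : G, orderOf g ≠ 2 * r) (x y : L) (hx : x ^ 4 = 1) (hy : y ^ r = 1) (hy1 : y ≠ 1)
    (hxy : x ^ 2 * y * (x ^ 2)⁻¹ = y⁻¹)
    (hodd : ∀ p : ℕ, p.Prime → p ≠ 2 → p ∣ Nat.card π.ker → (∀ g : G, orderOf g ≠ 4 * p) ∧
      ∃ z₁ z₂ : L, FourSq z₁ ∧ FourSq z₂ ∧ FourSq (z₁ * z₂)) : Function.Injective π := by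
  rw [← MonoidHom.ker_eq_bot_iff]
  by_contra hne
  obtain ⟨N, hN, hNK, hKN, p, hp, hpK, hc, hpow⟩ := exists_elem π.ker hsol hne
  apply hKN
  let π' : G ⧸ N →* L := QuotientGroup.lift N π (fun n hn => hNK hn)
  have hπ'mk : ∀ g : G, π' (QuotientGroup.mk' N g) = π g := fun g => rfl
  have hπ' : Function.Surjective π' := by
    intro l
    obtain ⟨g, hg⟩ := hπ l
    exact ⟨QuotientGroup.mk' N g, hg⟩
  have hord : ∀ n : ℕ, (∀ g : G, orderOf g ≠ n) → ∀ g : G ⧸ N, orderOf g ≠ n := by
    intro n hn g hg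
    obtain ⟨x, hx⟩ := exists_orderOf_of_surj (QuotientGroup.mk' N) (QuotientGroup.mk'_surjective N) g
    exact hn x (hx.trans hg)
  have hcomm : ∀ v w : G ⧸ N, π' v = 1 → π' w = 1 → v * w = w * v := by
    intro v w hv hw
    obtain ⟨v, rfl⟩ := QuotientGroup.mk'_surjective N v
    obtain ⟨w, rfl⟩ := QuotientGroup.mk'_surjective N w
    have h1 : QuotientGroup.mk' N (v * w * v⁻¹ * w⁻¹) = 1 := (QuotientGroup.eq_one_iff _).mpr (hc v hv w hw)
    rw [map_mul, map_mul, map_mul, map_inv, map_inv] at h1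
    have h2 := eq_inv_of_mul_eq_one_left h1
    rw [inv_inv] at h2
    exact mul_inv_eq_iff_eq_mul.mp h2
  have hpv : ∀ v : G ⧸ N, π' v = 1 → v ^ p = 1 := by
    intro v hv
    obtain ⟨v, rfl⟩ := QuotientGroup.mk'_surjective N v
    rw [← map_pow]
    exact (QuotientGroup.eq_one_iff _).mpr (hpow v hv)
  have key : ∀ v : G ⧸ N, π' v = 1 → v = 1 := by
    by_cases hp2 : p = 2
    · subst hp2
      obtain ⟨x', hx'⟩ := hπ' x
      obtain ⟨y', hy'⟩ := hπ' y
      intro v hv
      refine even_cover π' (fun v hv => by rw [← pow_two]; exact hpv v hv) (hord 8 h8) hr hr2 (hord _ h2r) x' y'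
        (by rw [hx', hx]) (by rw [hy', hy]) (by rw [hy']; exact hy1) (by rw [hx', hy', hxy]) v hv
    · obtain ⟨h4p, z₁, z₂, h₁, h₂, h₁₂⟩ := hodd p hp hp2 hpK
      intro v hv
      exact odd_cover π' hπ' hcomm hp hp2 hpv (hord _ h4p) z₁ z₂ h₁ h₂ h₁₂ v hv
  intro k hk
  exact (QuotientGroup.eq_one_iff k).mp (key (QuotientGroup.mk' N k) hk)

end Cfsg.Agent.H375.Cover
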