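import Mathlib
import Cfsg.Agent.H375.Cover

set_option autoImplicit false
set_option linter.unusedSectionVars false

/-!
# Reduction to almost simple groups, for primes not adjacent to 2

* `not_dvd_card`: an odd prime `r` not adjacent to 2 does not divide the order of a soluble normal subgroup of odd
  order with almost simple quotient.
* `not_dvd_index`: an odd prime `p` not adjacent to 2 does not divide `|M : S|`, if `p`-automorphisms preserve a class of
  involutions of `S`.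
* `exists_mem_orderOf`: elements of order coprime to `|K|` and `|M : S|` are seen in `S`.
-/

namespace Cfsg.Agent.H375.Reduce

open Cfsg.Agent.H375.Cover

/-- A soluble normal subgroup of order divisible by `r` has a section of exponent `r`. -/
theorem exists_elem_prime {G : Type*} [Group G] [Finite G] {r : ℕ} (hr : r.Prime) : ∀ (n : ℕ) (K : Subgroup G),
    Nat.card K ≤ n → K.Normal → Group.IsSolvable K → r ∣ Nat.card K → ∃ H N : Subgroup G, H.Normal ∧ N.Normal ∧
      N ≤ H ∧ H ≤ K ∧ ¬ H ≤ N ∧ (∀ a ∈ H, ∀ b ∈ H, a * b * a⁻¹ * b⁻¹ ∈ N) ∧ ∀ a ∈ H, a ^ r ∈ N := by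
  intro n
  induction n with
  | zero =>
    intro K hn _ _ _
    have := Nat.card_pos (α := K)
    omega
  | succ n ih =>
    intro K hn hK hsol hrK
    have hne : K ≠ ⊥ := by
      rintro rfl
      rw [Subgroup.card_bot] at hrK
      exact hr.one_lt.ne' (Nat.dvd_one.mp hrK)
    obtain ⟨N, hN, hNK, hKN, p, hp, hpK, hc, hpow⟩ := exists_elem K hsol hne
    by_cases hpr : p = r
    · subst hpr
      exact ⟨K, N, hK, hN, hNK, le_rfl, hKN, hc, hpow⟩
    · -- `K/N` is a `p`-group
      have h1 : IsPGroup p (K ⧸ N.subgroupOf K) := by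
        intro x
        obtain ⟨x, rfl⟩ := QuotientGroup.mk_surjective x
        refine ⟨1, ?_⟩
        rw [pow_one, ← QuotientGroup.mk_pow]
        exact (QuotientGroup.eq_one_iff _).mpr (hpow x x.2)
      have hfp : Fact p.Prime := ⟨hp⟩
      obtain ⟨m, hm⟩ := IsPGroup.iff_card.mp h1
      have h2 : Nat.card K = Nat.card (K ⧸ N.subgroupOf K) * Nat.card (N.subgroupOf K) :=
        Subgroup.card_eq_card_quotient_mul_card_subgroup _
      have h3 : Nat.card (N.subgroupOf K) = Nat.card N :=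
        Nat.card_congr (Subgroup.subgroupOfEquivOfLe hNK).toEquiv
      have hrN : r ∣ Nat.card N := by
        rw [h2, hm, h3] at hrK
        rcases hr.dvd_mul.mp hrK with h | h
        · exact absurd ((Nat.prime_dvd_prime_iff_eq hr hp).mp (hr.dvd_of_dvd_pow h)).symm hpr
        · exact h
      have hlt : Nat.card N < Nat.card K := by
        apply lt_of_le_of_ne (Nat.le_of_dvd Nat.card_pos (Subgroup.card_dvd_of_le hNK))
        intro h
        apply hKN
        rw [Subgroup.eq_of_le_of_card_ge hNK h.ge]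
      have hsN : Group.IsSolvable N := by
        have : Group.IsSolvable K := hsol
        exact Group.isSolvable_of_isSolvable_injective (f := Subgroup.inclusion hNK) (Subgroup.inclusion_injective hNK)
      obtain ⟨H, N', h⟩ := ih N (by omega) hN hsN hrN
      obtain ⟨h1, h2, h3, h4, h5⟩ := h
      exact ⟨H, N', h1, h2, h3, h4.trans hNK, h5⟩

/-- commuting elements of orders divisible by coprime `a`, `b`. -/
theorem exists_orderOf_mul {G : Type*} [Group G] [Finite G] {a b : ℕ} (hab : Nat.Coprime a b)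
    {x y : G} (hc : Commute x y) (hx : a ∣ orderOf x) (hy : b ∣ orderOf y) : ∃ g : G, orderOf g = a * b := by
  obtain ⟨k, hk⟩ := hx
  obtain ⟨l, hl⟩ := hy
  have hx0 := orderOf_pos x
  have hy0 := orderOf_pos y
  have hk0 : k ≠ 0 := by rintro rfl; omega
  have hl0 : l ≠ 0 := by rintro rfl; omega
  have h1 : orderOf (x ^ k) = a := by
    rw [orderOf_pow' x hk0, hk, Nat.gcd_mul_left_left, Nat.mul_div_cancel _ (Nat.pos_of_ne_zero hk0)]
  have h2 : orderOf (y ^ l) = b := by
    rw [orderOf_pow' y hl0, hl, Nat.gcd_mul_left_left, Nat.mul_div_cancel _ (Nat.pos_of_ne_zero hl0)]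
  refine ⟨x ^ k * y ^ l, ?_⟩
  rw [(hc.pow_pow k l).orderOf_mul_eq_mul_orderOf_of_coprime (by rw [h1, h2]; exact hab), h1, h2]

/-- **Odd order kernels.** -/
theorem not_dvd_card {G : Type*} [Group G] [Finite G] {r : ℕ} (hr : r.Prime) (hr2 : r ≠ 2)
    (h2r : ∀ g : G, orderOf g ≠ 2 * r) (K : Subgroup G) [K.Normal] (hK : Group.IsSolvable K) (hodd : ¬ 2 ∣ Nat.card K)
    (S : Subgroup (G ⧸ K)) [S.Normal] (hS : IsSimpleGroup S) (hna : ¬ IsMulCommutative S) (h2S : 2 ∣ Nat.card S) :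
    ¬ r ∣ Nat.card K := by
  intro hrK
  obtain ⟨H, N, hH, hN, hNH, hHK, hHN, hc, hpow⟩ := exists_elem_prime hr _ K le_rfl inferInstance hK hrK
  apply hHN
  have hfr : Fact r.Prime := ⟨hr⟩
  have hf2 : Fact (Nat.Prime 2) := ⟨Nat.prime_two⟩
  have hcop : Nat.Coprime 2 r := (Nat.coprime_primes Nat.prime_two hr).mpr (Ne.symm hr2)
  -- an element `w` of `H` centralized modulo `N` by an element of even order modulo `K` lies in `N`
  have key : ∀ w ∈ H, ∀ x : G, 2 ∣ orderOf (QuotientGroup.mk' K x) → x * w * x⁻¹ * w⁻¹ ∈ N → w ∈ N := by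
    intro w hw x hx hxw
    by_contra hwN
    let ψ : G →* G ⧸ N := QuotientGroup.mk' N
    have hNK : N ≤ K := hNH.trans hHK
    have h1 : orderOf (ψ w) = r := by
      apply orderOf_eq_prime
      · rw [← map_pow]
        exact (QuotientGroup.eq_one_iff _).mpr (hpow w hw)
      · intro h
        exact hwN ((QuotientGroup.eq_one_iff _).mp h)
    have h2 : 2 ∣ orderOf (ψ x) := by
      apply hx.trans
      apply orderOf_dvd_of_pow_eq_one
      rw [← map_pow]
      apply (QuotientGroup.eq_one_iff _).mpr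
      apply hNK
      apply (QuotientGroup.eq_one_iff (N := N) _).mp
      have := pow_orderOf_eq_one (ψ x)
      rw [← map_pow] at this
      exact this
    have h3 : Commute (ψ x) (ψ w) := by
      have h4 : ψ (x * w * x⁻¹ * w⁻¹) = 1 := (QuotientGroup.eq_one_iff _).mpr hxw
      rw [map_mul, map_mul, map_mul, map_inv, map_inv] at h4
      have h5 := eq_inv_of_mul_eq_one_left h4
      rw [inv_inv] at h5
      exact mul_inv_eq_iff_eq_mul.mp h5
    obtain ⟨g, hg⟩ := exists_orderOf_mul hcop h3 h2 h1.symm.dvd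
    obtain ⟨x, hx⟩ := exists_orderOf_of_surj ψ (QuotientGroup.mk'_surjective N) g
    exact h2r x (hx.trans hg)
  -- inverting
  have hconj : ∀ x : G, ∀ w ∈ H, x * w * x⁻¹ ∈ H := fun x w hw => hH.conj_mem w hw x
  have hNc : ∀ x : G, ∀ w ∈ N, x * w * x⁻¹ ∈ N := fun x w hw => hN.conj_mem w hw x
  have inv : ∀ w ∈ H, ∀ x : G, orderOf (QuotientGroup.mk' K x) = 2 → x ^ 2 = 1 → w * (x * w * x⁻¹) ∈ N := by
    intro w hw x hx hx2
    apply key _ (H.mul_mem hw (hconj x w hw)) x (by rw [hx])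
    have h1 : x * (w * (x * w * x⁻¹)) * x⁻¹ = (x * w * x⁻¹) * ((x ^ 2) * w * (x ^ 2)⁻¹) := by
      rw [pow_two]; group
    rw [h1, hx2, one_mul, inv_one, mul_one]
    have h2 := hc (x * w * x⁻¹) (hconj x w hw) w hw
    have h3 : x * w * x⁻¹ * w * (w * (x * w * x⁻¹))⁻¹ = (x * w * x⁻¹) * w * (x * w * x⁻¹)⁻¹ * w⁻¹ := by group
    rw [h3]
    exact h2
  -- lifting involutions
  have lift : ∀ t : G ⧸ K, orderOf t = 2 → ∃ x : G, x ^ 2 = 1 ∧ QuotientGroup.mk' K x = t := by
    intro t ht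
    obtain ⟨x, rfl⟩ := QuotientGroup.mk'_surjective K t
    obtain ⟨k, hk⟩ : Odd (Nat.card K) := by
      rw [← Nat.not_even_iff_odd, even_iff_two_dvd]; exact hodd
    have hx2 : x ^ 2 ∈ K := by
      apply (QuotientGroup.eq_one_iff _).mp
      have := pow_orderOf_eq_one (QuotientGroup.mk' K x)
      rw [ht, ← map_pow] at this
      exact this
    refine ⟨x ^ (Nat.card K), ?_, ?_⟩
    · rw [← pow_mul, mul_comm, pow_mul]
      have h := pow_card_eq_one' (G := K) (x := ⟨x ^ 2, hx2⟩)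
      exact congrArg Subtype.val h
    · rw [hk, pow_succ, pow_mul, map_mul, map_pow]
      have h1 : QuotientGroup.mk' K (x ^ 2) = 1 := (QuotientGroup.eq_one_iff _).mpr hx2
      rw [h1, one_pow, one_mul]
  -- two involutions of `S`
  obtain ⟨t, ht⟩ := exists_prime_orderOf_dvd_card' (G := S) 2 h2S
  have hnc : ∃ g : S, g * t * g⁻¹ ≠ t := by
    by_contra hcon
    push Not at hcon
    have h1 : t ∈ Subgroup.center S := by
      rw [Subgroup.mem_center_iff]
      intro g
      exact mul_inv_eq_iff_eq_mul.mp (hcon g)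
    have h2 : Subgroup.center S = ⊤ := by
      rcases hS.eq_bot_or_eq_top_of_normal (Subgroup.center S) inferInstance with h | h
      · rw [h, Subgroup.mem_bot] at h1
        rw [h1, orderOf_one] at ht
        norm_num at ht
      · exact h
    apply hna
    refine ⟨⟨fun a b => ?_⟩⟩
    have : b ∈ Subgroup.center S := by rw [h2]; trivial
    exact Subgroup.mem_center_iff.mp this a
  obtain ⟨g, hg⟩ := hnc
  have ht' : orderOf (g * t * g⁻¹) = 2 := by
    rw [← ht]
    have : g * t * g⁻¹ = MulAut.conj g t := rfl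
    rw [this, MulEquiv.orderOf_eq]
  have hot : ∀ s : S, orderOf (s : G ⧸ K) = orderOf s := fun s => Subgroup.orderOf_coe s
  obtain ⟨x, hx2, hxt⟩ := lift (t : G ⧸ K) (by rw [hot, ht])
  obtain ⟨y, hy2, hyt⟩ := lift ((g * t * g⁻¹ : S) : G ⧸ K) (by rw [hot, ht'])
  -- the centralizer of `H/N`
  let C : Subgroup G :=
    { carrier := {c | ∀ w ∈ H, c * w * c⁻¹ * w⁻¹ ∈ N}
      one_mem' := by
        intro w _
        simp [N.one_mem]
      mul_mem' := by
        intro a b ha hb w hw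
        have h1 := ha _ (hconj b w hw)
        have h2 := hb w hw
        have : a * b * w * (a * b)⁻¹ * w⁻¹ =
            (a * (b * w * b⁻¹) * a⁻¹ * (b * w * b⁻¹)⁻¹) * (b * w * b⁻¹ * w⁻¹) := by group
        rw [this]
        exact N.mul_mem h1 h2
      inv_mem' := by
        intro a ha w hw
        have h1 := ha _ (hconj a⁻¹ w hw)
        have h2 := N.inv_mem h1
        have : a⁻¹ * w * a⁻¹⁻¹ * w⁻¹ = (a * (a⁻¹ * w * a⁻¹⁻¹) * a⁻¹ * (a⁻¹ * w * a⁻¹⁻¹)⁻¹)⁻¹ := by group
        rw [this]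
        exact h2 }
  have hCn : C.Normal := by
    constructor
    intro c hcC g w hw
    have h1 := hcC _ (hconj g⁻¹ w hw)
    have h2 := hNc g _ h1
    have : g * c * g⁻¹ * w * (g * c * g⁻¹)⁻¹ * w⁻¹ =
        g * (c * (g⁻¹ * w * g⁻¹⁻¹) * c⁻¹ * (g⁻¹ * w * g⁻¹⁻¹)⁻¹) * g⁻¹ := by group
    rw [this]
    exact h2
  have hxyC : x * y ∈ C := by
    intro w hw
    -- `w (y w y⁻¹) ∈ N`, `(y w y⁻¹) (x (y w y⁻¹) x⁻¹) ∈ N`
    have h1 := inv w hw y (by rw [hyt, hot, ht']) hy2
    have h2 := inv _ (hconj y w hw) x (by rw [hxt, hot, ht]) hx2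
    have h3 := N.mul_mem (N.inv_mem h1) (N.mul_mem (hNc w _ h2) (N.one_mem))
    have h4 : (y * w * y⁻¹)⁻¹ * (w⁻¹ * (w * (y * w * y⁻¹) * (x * (y * w * y⁻¹) * x⁻¹) * w⁻¹)) ∈ N := by
      have : (y * w * y⁻¹)⁻¹ * (w⁻¹ * (w * (y * w * y⁻¹) * (x * (y * w * y⁻¹) * x⁻¹) * w⁻¹)) =
        (w * (y * w * y⁻¹))⁻¹ * (w * ((y * w * y⁻¹) * (x * (y * w * y⁻¹) * x⁻¹)) * w⁻¹ * 1) := by group
      rw [this]
      exact h3
    have : x * y * w * (x * y)⁻¹ * w⁻¹ =
      (y * w * y⁻¹)⁻¹ * (w⁻¹ * (w * (y * w * y⁻¹) * (x * (y * w * y⁻¹) * x⁻¹) * w⁻¹)) := by group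
    rw [this]
    exact h4
  -- the image of `C` contains `S`
  let D : Subgroup (G ⧸ K) := C.map (QuotientGroup.mk' K)
  have hDn : D.Normal := hCn.map _ (QuotientGroup.mk'_surjective K)
  have hSD : S ≤ D := by
    rcases hS.eq_bot_or_eq_top_of_normal (D.subgroupOf S) inferInstance with h | h
    · exfalso
      have h1 : (t * (g * t * g⁻¹) : S) ∈ D.subgroupOf S := by
        rw [Subgroup.mem_subgroupOf]
        refine ⟨x * y, hxyC, ?_⟩
        rw [map_mul, hxt, hyt]
        rfl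
      rw [h, Subgroup.mem_bot] at h1
      apply hg
      have h2 : t * t = 1 := by
        have := pow_orderOf_eq_one t
        rwa [ht, pow_two] at this
      have h3 := eq_inv_of_mul_eq_one_right h1
      rw [h3]
      exact inv_eq_of_mul_eq_one_right h2
    · intro s hs
      have : (⟨s, hs⟩ : S) ∈ D.subgroupOf S := by rw [h]; trivial
      exact this
  obtain ⟨c, hcC, hct⟩ := hSD t.2
  intro w hw
  exact key w hw c (by rw [hct, hot, ht]) (hcC w hw)

/-- **The outer part.** -/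
theorem not_dvd_index {M : Type*} [Group M] [Finite M] (S : Subgroup M) [S.Normal] {p : ℕ} (hp : p.Prime)
    (hp2 : p ≠ 2) (h2p : ∀ g : M, orderOf g ≠ 2 * p)
    (hfix : ∀ g : M, (∃ k : ℕ, g ^ (p ^ k) = 1) → ∃ t ∈ S, orderOf t = 2 ∧ ∃ s ∈ S, g * t * g⁻¹ = s * t * s⁻¹) :
    ¬ p ∣ S.index := by
  intro hdvd
  have hfp : Fact p.Prime := ⟨hp⟩
  have hcop : Nat.Coprime p 2 := (Nat.coprime_primes hp Nat.prime_two).mpr hp2
  rw [Subgroup.index] at hdvd
  obtain ⟨g', hg'⟩ := exists_prime_orderOf_dvd_card' (G := M ⧸ S) p hdvd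
  obtain ⟨g, rfl⟩ := QuotientGroup.mk'_surjective S g'
  -- the `p`-part of `g`
  have hpos := orderOf_pos g
  obtain ⟨k, m, hm, hk⟩ := Nat.exists_eq_pow_mul_and_not_dvd hpos.ne' p hp.ne_one
  have hm1 : Nat.Coprime p m := (Nat.Prime.coprime_iff_not_dvd hp).mpr hm
  have h1 : (g ^ m) ^ (p ^ k) = 1 := by
    rw [← pow_mul, mul_comm, ← hk, pow_orderOf_eq_one]
  obtain ⟨t, htS, ht, s, hs, hgt⟩ := hfix (g ^ m) ⟨k, h1⟩
  have hc : Commute (s⁻¹ * g ^ m) t := by
    show s⁻¹ * g ^ m * t = t * (s⁻¹ * g ^ m)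
    calc s⁻¹ * g ^ m * t = s⁻¹ * (g ^ m * t * (g ^ m)⁻¹) * g ^ m := by group
      _ = s⁻¹ * (s * t * s⁻¹) * g ^ m := by rw [hgt]
      _ = t * (s⁻¹ * g ^ m) := by group
  have h2 : QuotientGroup.mk' S (s⁻¹ * g ^ m) = (QuotientGroup.mk' S g) ^ m := by
    rw [map_mul, map_inv, map_pow]
    have : QuotientGroup.mk' S s = 1 := (QuotientGroup.eq_one_iff _).mpr hs
    rw [this, inv_one, one_mul]
  have h3 : orderOf ((QuotientGroup.mk' S g) ^ m) = p := by
    rw [Nat.Coprime.orderOf_pow (by rw [hg']; exact hm1), hg']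
  have h4 : p ∣ orderOf (s⁻¹ * g ^ m) := by
    rw [← h3, ← h2]
    exact orderOf_map_dvd _ _
  obtain ⟨x, hx⟩ := exists_orderOf_mul hcop hc h4 ht.symm.dvd
  exact h2p x (hx.trans (mul_comm _ _))

/-- elements of order coprime to `|M : S|` lie in `S`. -/
theorem mem_of_coprime {M : Type*} [Group M] [Finite M] (S : Subgroup M) [S.Normal] (g : M)
    (h : Nat.Coprime (orderOf g) S.index) : g ∈ S := by
  have h1 : orderOf (QuotientGroup.mk' S g) ∣ orderOf g := orderOf_map_dvd _ _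
  have h2 : orderOf (QuotientGroup.mk' S g) ∣ S.index := orderOf_dvd_natCard _
  have h3 : orderOf (QuotientGroup.mk' S g) = 1 := Nat.eq_one_of_dvd_coprimes h h1 h2
  exact (QuotientGroup.eq_one_iff g).mp (orderOf_eq_one_iff.mp h3)

/-- orders coprime to `|K|` are preserved. -/
theorem orderOf_mk {G : Type*} [Group G] [Finite G] (K : Subgroup G) [K.Normal] (g : G)
    (h : Nat.Coprime (orderOf g) (Nat.card K)) : orderOf (QuotientGroup.mk' K g) = orderOf g := by
  apply Nat.dvd_antisymm (orderOf_map_dvd _ _)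
  set n := orderOf (QuotientGroup.mk' K g) with hn
  have h1 : g ^ n ∈ K := by
    apply (QuotientGroup.eq_one_iff _).mp
    have := pow_orderOf_eq_one (QuotientGroup.mk' K g)
    rw [← hn, ← map_pow] at this
    exact this
  have h2 : orderOf (g ^ n) ∣ Nat.card K := by
    have h3 := orderOf_dvd_natCard (⟨g ^ n, h1⟩ : K)
    rwa [← Subgroup.orderOf_coe] at h3
  have h3 : orderOf (g ^ n) ∣ orderOf g := orderOf_pow_dvd n
  have h4 : orderOf (g ^ n) = 1 := Nat.eq_one_of_dvd_coprimes h h3 h2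
  exact orderOf_dvd_of_pow_eq_one (orderOf_eq_one_iff.mp h4)

/-- elements of order coprime to `|K|` and to `|G/K : S|` are seen in `S`. -/
theorem exists_mem_orderOf {G : Type*} [Group G] [Finite G] (K : Subgroup G) [K.Normal] (S : Subgroup (G ⧸ K))
    [S.Normal] (g : G) (h : Nat.Coprime (orderOf g) (Nat.card K)) (h' : Nat.Coprime (orderOf g) S.index) :
    ∃ s : S, orderOf s = orderOf g := by
  have h1 := orderOf_mk K g h
  refine ⟨⟨QuotientGroup.mk' K g, mem_of_coprime S _ (by rw [h1]; exact h')⟩, ?_⟩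
  rw [← Subgroup.orderOf_coe]
  exact h1

/-- element orders of `S ≤ G/K` are element orders of `G`. -/
theorem exists_orderOf_of_sub {G : Type*} [Group G] [Finite G] (K : Subgroup G) [K.Normal] (S : Subgroup (G ⧸ K))
    (s : S) : ∃ g : G, orderOf g = orderOf s := by
  obtain ⟨g, hg⟩ := exists_orderOf_of_surj (QuotientGroup.mk' K) (QuotientGroup.mk'_surjective K) (s : G ⧸ K)
  exact ⟨g, by rw [hg, Subgroup.orderOf_coe]⟩

end Cfsg.Agent.H375.Reduce
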