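import Mathlib
import Cfsg.Agent.H375.Reduce
import Cfsg.Agent.H375.LThree.Outer
import Cfsg.Agent.H147.SzClass
import Cfsg.Agent.ClassicalGeometry.SLTwoFour
import Cfsg.Agent.SmallSimple.SylowEight
import Cfsg.Agent.StandardComponent.AltAut

set_option autoImplicit false
set_option linter.unusedSectionVars false

/-!
# Classes of involutions fixed by automorphisms of `p`-power order

`InvFix p S`: every automorphism of `S` of `p`-power order fixes a class of involutions of `S`.  If `S` is normal in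
`M` and `p ≠ 2` is not adjacent to `2` in the prime graph of `M`, then `p ∤ |M : S|` (`not_dvd_index'`).

* `OneInv.invFix`: one class of involutions;
* `oneInv_psl_odd`, `oneInv_sz`, `oneInv_of_card`;
* `invFix_psl_two`, `invFix_psl_three`, `invFix_alt`.
-/

namespace Cfsg.Agent.H375

open Cfsg.Agent.H375.Reduce

/-- Every automorphism of `p`-power order fixes a class of involutions. -/
def InvFix (p : ℕ) (S : Type*) [Group S] : Prop :=
  ∀ α : MulAut S, (∃ k : ℕ, α ^ (p ^ k) = 1) → ∃ t : S, orderOf t = 2 ∧ ∃ s : S, α t = s * t * s⁻¹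

theorem InvFix.congr {p : ℕ} {S T : Type*} [Group S] [Group T] (e : S ≃* T) (h : InvFix p S) : InvFix p T := by
  rintro α ⟨k, hk⟩
  have h1 : ((MulAut.congr e).symm α) ^ (p ^ k) = 1 := by rw [← map_pow, hk, map_one]
  obtain ⟨t, ht, s, hs⟩ := h _ ⟨k, h1⟩
  refine ⟨e t, by rw [MulEquiv.orderOf_eq, ht], e s, ?_⟩
  have h2 : ((MulAut.congr e).symm α) t = e.symm (α (e t)) := rfl
  rw [h2] at hs
  have h3 := congrArg e hs
  rw [e.apply_symm_apply, map_mul, map_mul, map_inv] at h3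
  exact h3

/-- **The outer part.** -/
theorem not_dvd_index' {M : Type*} [Group M] [Finite M] (S : Subgroup M) [S.Normal] {p : ℕ} (hp : p.Prime)
    (hp2 : p ≠ 2) (h2p : ∀ g : M, orderOf g ≠ 2 * p) (h : InvFix p S) : ¬ p ∣ S.index := by
  apply not_dvd_index S hp hp2 h2p
  rintro g ⟨k, hk⟩
  obtain ⟨t, ht, s, hs⟩ := h (MulAut.conjNormal g) ⟨k, by rw [← map_pow, hk, map_one]⟩
  refine ⟨t, t.2, by rw [Subgroup.orderOf_coe, ht], s, s.2, ?_⟩
  have := congrArg Subtype.val hs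
  exact this

/-- One class of involutions. -/
def OneInv (S : Type*) [Group S] : Prop := ∀ x y : S, orderOf x = 2 → orderOf y = 2 → IsConj x y

theorem OneInv.congr {S T : Type*} [Group S] [Group T] (e : S ≃* T) (h : OneInv S) : OneInv T := by
  intro x y hx hy
  obtain ⟨c, hc⟩ := isConj_iff.mp
    (h (e.symm x) (e.symm y) (by rw [MulEquiv.orderOf_eq, hx]) (by rw [MulEquiv.orderOf_eq, hy]))
  refine isConj_iff.mpr ⟨e c, ?_⟩
  have h2 := congrArg e hc
  rw [map_mul, map_mul, map_inv, e.apply_symm_apply, e.apply_symm_apply] at h2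
  exact h2

theorem OneInv.invFix {S : Type*} [Group S] [Finite S] (h : OneInv S) (h2 : 2 ∣ Nat.card S) (p : ℕ) : InvFix p S := by
  intro α _
  have : Fact (Nat.Prime 2) := ⟨Nat.prime_two⟩
  obtain ⟨t, ht⟩ := exists_prime_orderOf_dvd_card' (G := S) 2 h2
  obtain ⟨s, hs⟩ := isConj_iff.mp (h t (α t) ht (by rw [MulEquiv.orderOf_eq, ht]))
  exact ⟨t, ht, s, hs.symm⟩

/-- Automorphisms with an inner `2`-power power. -/
theorem invFix_of_outTwo {S : Type*} [Group S] [Finite S] (h2 : 2 ∣ Nat.card S) {p : ℕ} (hp : p.Prime) (hp2 : p ≠ 2)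
    (h : ∀ α : MulAut S, ∃ n : ℕ, α ^ 2 ^ n ∈ (MulAut.conj : S →* MulAut S).range) : InvFix p S := by
  rintro α ⟨k, hk⟩
  obtain ⟨n, hn⟩ := h α
  have hcop : Nat.Coprime (2 ^ n) (p ^ k) :=
    Nat.Coprime.pow n k ((Nat.coprime_primes Nat.prime_two hp).mpr (Ne.symm hp2))
  have h1 : α ∈ (MulAut.conj : S →* MulAut S).range := by
    have h3 : α = (α ^ 2 ^ n) ^ (Nat.gcdA (2 ^ n) (p ^ k)) := by
      have h4 := Nat.gcd_eq_gcd_ab (2 ^ n) (p ^ k)
      rw [hcop.gcd_eq_one] at h4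
      have h5 : α ^ (1 : ℤ) = (α ^ 2 ^ n) ^ (Nat.gcdA (2 ^ n) (p ^ k)) := by
        rw [← Nat.cast_one, h4, zpow_add, zpow_mul, zpow_mul, zpow_natCast, zpow_natCast, hk, one_zpow, mul_one]
      rwa [zpow_one] at h5
    rw [h3]
    exact Subgroup.zpow_mem _ hn _
  obtain ⟨s, rfl⟩ := h1
  have : Fact (Nat.Prime 2) := ⟨Nat.prime_two⟩
  obtain ⟨t, ht⟩ := exists_prime_orderOf_dvd_card' (G := S) 2 h2
  exact ⟨t, ht, s, rfl⟩

/-- `PSL(2, q)`, `q` odd. -/
theorem oneInv_psl_odd {F : Type*} [Field F] [Fintype F] (hodd : Odd (Fintype.card F)) :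
    OneInv (Matrix.ProjectiveSpecialLinearGroup (Fin 2) F) := fun x y hx hy =>
  Cfsg.Agent.ClassicalGeometry.SLTwoFour.psl_isConj hodd x y hx hy

/-- The Suzuki groups. -/
theorem oneInv_sz {F : Type*} [Field F] [Fintype F] {m : ℕ}
    (hF : Fintype.card F = 2 ^ (2 * m + 1)) : OneInv ↥(Cfsg.Lie.Sz F (2 ^ (m + 1))) := by
  have key : ∀ x : ↥(Cfsg.Lie.Sz F (2 ^ (m + 1))), orderOf x = 2 → x ≠ 1 ∧ x * x = 1 := by
    intro x hx
    refine ⟨?_, ?_⟩
    · rintro rfl
      rw [orderOf_one] at hx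
      norm_num at hx
    · rw [← pow_two]
      exact orderOf_dvd_iff_pow_eq_one.mp hx.dvd
  intro x y hx hy
  obtain ⟨hx1, hx2⟩ := key x hx
  obtain ⟨hy1, hy2⟩ := key y hy
  exact (Cfsg.Agent.H147.Sz.isConj_invol (Cfsg.Agent.LieRecognition.SzMatrix.good hF) hx1 hx2).trans
    (Cfsg.Agent.H147.Sz.isConj_invol (Cfsg.Agent.LieRecognition.SzMatrix.good hF) hy1 hy2).symm

/-- Simple groups with Sylow 2-subgroups of order 8: `J₁`, the Ree groups, `A₆`, `A₇`, … -/
theorem oneInv_of_card {G : Type*} [Group G] [Finite G] [IsSimpleGroup G]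
    (hG : ¬ IsMulCommutative G) (h8 : 8 ∣ Nat.card G) (h16 : ¬ 16 ∣ Nat.card G) : OneInv G := fun x y hx hy =>
  Cfsg.Agent.SmallSimple.SylowEight.isConj_of_card_sylow_eight hG h8 h16 x y hx hy

/-- the alternating groups. -/
theorem invFix_alt {n : ℕ} (hn : 7 ≤ n) (p : ℕ) : InvFix p (alternatingGroup (Fin n)) := by
  classical
  obtain ⟨m, rfl⟩ : ∃ m, n = m + 2 := ⟨n - 2, by omega⟩
  rintro α -
  obtain ⟨σ, hσ⟩ := Cfsg.Agent.StandardComponent.AltAut.exists_conj (m := m) (by omega) α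
  let a0 : Fin (m + 2) := ⟨0, by omega⟩
  let a1 : Fin (m + 2) := ⟨1, by omega⟩
  let a2 : Fin (m + 2) := ⟨2, by omega⟩
  let a3 : Fin (m + 2) := ⟨3, by omega⟩
  let a4 : Fin (m + 2) := ⟨4, by omega⟩
  let a5 : Fin (m + 2) := ⟨5, by omega⟩
  have hd : Equiv.Perm.Disjoint (Equiv.swap a0 a1) (Equiv.swap a2 a3) := by
    rw [Equiv.Perm.disjoint_iff_disjoint_support, Equiv.Perm.support_swap (by simp [a0, a1]),
      Equiv.Perm.support_swap (by simp [a2, a3])]
    simp [a0, a1, a2, a3]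
  have hd2 : Equiv.Perm.Disjoint (Equiv.swap a0 a1 * Equiv.swap a2 a3) (Equiv.swap a4 a5) := by
    apply Equiv.Perm.Disjoint.mul_left
    · rw [Equiv.Perm.disjoint_iff_disjoint_support, Equiv.Perm.support_swap (by simp [a0, a1]),
        Equiv.Perm.support_swap (by simp [a4, a5])]
      simp [a0, a1, a4, a5]
    · rw [Equiv.Perm.disjoint_iff_disjoint_support, Equiv.Perm.support_swap (by simp [a2, a3]),
        Equiv.Perm.support_swap (by simp [a4, a5])]
      simp [a2, a3, a4, a5]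
  have ht : Equiv.swap a0 a1 * Equiv.swap a2 a3 ∈ alternatingGroup (Fin (m + 2)) := by
    rw [Equiv.Perm.mem_alternatingGroup, map_mul, Equiv.Perm.sign_swap (by simp [a0, a1]),
      Equiv.Perm.sign_swap (by simp [a2, a3])]
    norm_num
  have hord : orderOf (Equiv.swap a0 a1 * Equiv.swap a2 a3) = 2 := by
    have : Fact (Nat.Prime 2) := ⟨Nat.prime_two⟩
    apply orderOf_eq_prime
    · rw [hd.commute.mul_pow, pow_two, pow_two, Equiv.swap_mul_self, Equiv.swap_mul_self, one_mul]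
    · intro h
      have h1 := congrArg (fun f : Equiv.Perm (Fin (m + 2)) => f a0) h
      simp only [Equiv.Perm.mul_apply, Equiv.Perm.one_apply] at h1
      have e0 : Equiv.swap a2 a3 a0 = a0 :=
        Equiv.swap_apply_of_ne_of_ne (by simp [a0, a2]) (by simp [a0, a3])
      rw [e0, Equiv.swap_apply_left] at h1
      simp [a0, a1] at h1
  refine ⟨⟨_, ht⟩, by rw [← Subgroup.orderOf_coe]; exact hord, ?_⟩
  have key : ∀ τ : Equiv.Perm (Fin (m + 2)), Equiv.Perm.sign τ = 1 →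
      σ * (Equiv.swap a0 a1 * Equiv.swap a2 a3) * σ⁻¹ = τ * (Equiv.swap a0 a1 * Equiv.swap a2 a3) * τ⁻¹ →
      ∃ s : alternatingGroup (Fin (m + 2)), α ⟨_, ht⟩ = s * ⟨_, ht⟩ * s⁻¹ := by
    intro τ hτ h
    refine ⟨⟨τ, Equiv.Perm.mem_alternatingGroup.mpr hτ⟩, ?_⟩
    apply Subtype.ext
    rw [hσ]
    exact h
  rcases Int.units_eq_one_or (Equiv.Perm.sign σ) with h | h
  · exact key σ h rfl
  · refine key (σ * Equiv.swap a4 a5) (by
      rw [map_mul, h, Equiv.Perm.sign_swap (by simp [a4, a5])]; norm_num) ?_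
    have hc := hd2.commute
    have hc' : Equiv.swap a4 a5 * (Equiv.swap a0 a1 * Equiv.swap a2 a3) =
      (Equiv.swap a0 a1 * Equiv.swap a2 a3) * Equiv.swap a4 a5 := hc.symm
    calc σ * (Equiv.swap a0 a1 * Equiv.swap a2 a3) * σ⁻¹
        = σ * ((Equiv.swap a0 a1 * Equiv.swap a2 a3) * Equiv.swap a4 a5) * (σ * Equiv.swap a4 a5)⁻¹ := by group
      _ = σ * (Equiv.swap a4 a5 * (Equiv.swap a0 a1 * Equiv.swap a2 a3)) * (σ * Equiv.swap a4 a5)⁻¹ := by rw [hc']
      _ = σ * Equiv.swap a4 a5 * (Equiv.swap a0 a1 * Equiv.swap a2 a3) * (σ * Equiv.swap a4 a5)⁻¹ := by group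

section PSL

open Matrix Cfsg.Agent.ClassicalGeometry.AutPSL.Auto Cfsg.Agent.ClassicalGeometry.AutPSL.Root
  Cfsg.Agent.ClassicalGeometry.AutPSL.Main Cfsg.Agent.H375.LThree

/-- the transvection `1 + E₁₃` -/
def t3 (F : Type*) [Field F] : Matrix.SpecialLinearGroup (Fin 3) F :=
  ⟨!![1, 0, 1; 0, 1, 0; 0, 0, 1], by rw [det_fin_three]; simp⟩

theorem coe_t3 (F : Type*) [Field F] : (t3 F : Matrix (Fin 3) (Fin 3) F) = !![1, 0, 1; 0, 1, 0; 0, 0, 1] := rfl

/-- `PSL(3, q)`, `q` even. -/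
theorem invFix_psl_three {F : Type*} [Field F] [Fintype F] [CharP F 2] (p : ℕ) :
    InvFix p (Matrix.ProjectiveSpecialLinearGroup (Fin 3) F) := by
  have : Fact (Nat.Prime 2) := ⟨Nat.prime_two⟩
  rintro α -
  have h11 := add_self_eq_zero' (1 : F)
  have hsq : t3 F * t3 F = 1 := by
    apply Subtype.ext
    rw [Matrix.SpecialLinearGroup.coe_mul, coe_t3]
    ext i j
    fin_cases i <;> fin_cases j <;> simp [Matrix.mul_apply, Fin.sum_univ_succ, h11]
  refine ⟨pr (t3 F), ?_, ?_⟩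
  · apply orderOf_eq_prime
    · rw [pow_two, ← map_mul, hsq, map_one]
    · intro h
      rw [pr_eq_one_iff, Matrix.SpecialLinearGroup.mem_center_iff] at h
      obtain ⟨r, -, hr⟩ := h
      have h1 := congrFun (congrFun hr 0) 2
      rw [coe_t3] at h1
      simp at h1
  · -- conjugates under `GL` are conjugates under `SL`
    have key : ∀ B : GL (Fin 3) F, ∃ s : Matrix.SpecialLinearGroup (Fin 3) F, cj B (t3 F) = s * t3 F * s⁻¹ := by
      intro B
      have hB0 : (B : Matrix (Fin 3) (Fin 3) F).det ≠ 0 := (Matrix.isUnits_det_units B).ne_zero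
      set b := (B : Matrix (Fin 3) (Fin 3) F).det with hb
      have hdet : (!![1, 0, 0; 0, b⁻¹, 0; 0, 0, 1] : Matrix (Fin 3) (Fin 3) F).det = b⁻¹ := by
        rw [det_fin_three]; simp
      let E : GL (Fin 3) F := Matrix.GeneralLinearGroup.mkOfDetNeZero !![1, 0, 0; 0, b⁻¹, 0; 0, 0, 1]
        (by rw [hdet]; exact inv_ne_zero hB0)
      have hE : (E : Matrix (Fin 3) (Fin 3) F) = !![1, 0, 0; 0, b⁻¹, 0; 0, 0, 1] := rfl
      have h1 : ((B * E : GL (Fin 3) F) : Matrix (Fin 3) (Fin 3) F).det = 1 := by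
        rw [Units.val_mul, det_mul, hE, hdet, ← hb, mul_inv_cancel₀ hB0]
      have h2 : cj E (t3 F) = t3 F := by
        apply Subtype.ext
        rw [coe_cj]
        have h3 : (E : Matrix (Fin 3) (Fin 3) F) * (t3 F : Matrix (Fin 3) (Fin 3) F) =
            (t3 F : Matrix (Fin 3) (Fin 3) F) * (E : Matrix (Fin 3) (Fin 3) F) := by
          rw [hE, coe_t3]
          ext i j
          fin_cases i <;> fin_cases j <;> simp [Matrix.mul_apply, Fin.sum_univ_succ]
        rw [h3, mul_assoc, ← Units.val_mul, mul_inv_cancel, Units.val_one, mul_one]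
      refine ⟨toSL (B * E) h1, ?_⟩
      have h3 : cj B (t3 F) = cj (B * E) (t3 F) := by
        rw [map_mul]
        show cj B (t3 F) = cj B (cj E (t3 F))
        rw [h2]
      rw [h3]
      apply Subtype.ext
      rw [coe_cj, Matrix.SpecialLinearGroup.coe_mul, Matrix.SpecialLinearGroup.coe_mul]
      congr 1
      rw [Matrix.SpecialLinearGroup.coe_inv, Matrix.coe_units_inv, Matrix.inv_def, h1]
      simp [toSL]
    have hfld : ∀ σ : F ≃+* F, fld σ (t3 F) = t3 F := by
      intro σ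
      apply Subtype.ext
      ext i j
      rw [coe_fld_apply, coe_t3]
      fin_cases i <;> fin_cases j <;> simp
    -- the inverse transpose is a conjugate
    have hJdet : (!![0, 0, 1; 0, 1, 0; 1, 0, 0] : Matrix (Fin 3) (Fin 3) F).det ≠ 0 := by
      rw [det_fin_three]; simp
    let J : GL (Fin 3) F := Matrix.GeneralLinearGroup.mkOfDetNeZero !![0, 0, 1; 0, 1, 0; 1, 0, 0] hJdet
    have hJ : (J : Matrix (Fin 3) (Fin 3) F) = !![0, 0, 1; 0, 1, 0; 1, 0, 0] := rfl
    have hitr : itr (t3 F) = cj J (t3 F) := by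
      apply Subtype.ext
      rw [coe_itr, coe_cj]
      have h1 : (t3 F)⁻¹ = t3 F := inv_eq_of_mul_eq_one_right hsq
      have h2 : ((t3 F : Matrix (Fin 3) (Fin 3) F))ᵀ * (J : Matrix (Fin 3) (Fin 3) F) =
          (J : Matrix (Fin 3) (Fin 3) F) * (t3 F : Matrix (Fin 3) (Fin 3) F) := by
        rw [hJ, coe_t3]
        ext i j
        fin_cases i <;> fin_cases j <;> simp [Matrix.mul_apply, Fin.sum_univ_succ]
      rw [h1, ← h2, mul_assoc, ← Units.val_mul, mul_inv_cancel, Units.val_one, mul_one]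
    rcases surj_three 2 le_rfl α with ⟨B, σ, rfl⟩ | ⟨B, σ, rfl⟩
    · obtain ⟨s, hs⟩ := key B
      refine ⟨pr s, ?_⟩
      rw [lift_pr]
      have : (cj B * fld σ : MulAut (Matrix.SpecialLinearGroup (Fin 3) F)) (t3 F) = cj B (fld σ (t3 F)) := rfl
      rw [this, hfld, hs, map_mul, map_mul, map_inv]
    · obtain ⟨s, hs⟩ := key (B * sg σ J)
      refine ⟨pr s, ?_⟩
      rw [lift_pr]
      have : (cj B * fld σ * itr : MulAut (Matrix.SpecialLinearGroup (Fin 3) F)) (t3 F) =
        cj B (fld σ (itr (t3 F))) := rfl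
      rw [this, hitr]
      have h2 : fld σ (cj J (t3 F)) = cj (sg σ J) (fld σ (t3 F)) :=
        congrArg (fun f : MulAut (Matrix.SpecialLinearGroup (Fin 3) F) => f (t3 F)) (fld_mul_cj σ J)
      rw [h2, hfld]
      have h3 : cj B (cj (sg σ J) (t3 F)) = cj (B * sg σ J) (t3 F) := by rw [map_mul]; rfl
      rw [h3, hs, map_mul, map_mul, map_inv]

/-- the transvection `1 + E₁₂` -/
def t2 (F : Type*) [Field F] : Matrix.SpecialLinearGroup (Fin 2) F :=
  ⟨!![1, 1; 0, 1], by rw [det_fin_two]; simp⟩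

theorem coe_t2 (F : Type*) [Field F] : (t2 F : Matrix (Fin 2) (Fin 2) F) = !![1, 1; 0, 1] := rfl

/-- `PSL(2, q)`, `q` even. -/
theorem invFix_psl_two_even {F : Type*} [Field F] [Fintype F] [CharP F 2] (p : ℕ) :
    InvFix p (Matrix.ProjectiveSpecialLinearGroup (Fin 2) F) := by
  have : Fact (Nat.Prime 2) := ⟨Nat.prime_two⟩
  rintro α -
  have h11 := add_self_eq_zero' (1 : F)
  have hsq : t2 F * t2 F = 1 := by
    apply Subtype.ext
    rw [Matrix.SpecialLinearGroup.coe_mul, coe_t2]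
    ext i j
    fin_cases i <;> fin_cases j <;> simp [Matrix.mul_apply, Fin.sum_univ_succ, h11]
  refine ⟨pr (t2 F), ?_, ?_⟩
  · apply orderOf_eq_prime
    · rw [pow_two, ← map_mul, hsq, map_one]
    · intro h
      rw [pr_eq_one_iff, Matrix.SpecialLinearGroup.mem_center_iff] at h
      obtain ⟨r, -, hr⟩ := h
      have h1 := congrFun (congrFun hr 0) 1
      rw [coe_t2] at h1
      simp at h1
  · have key : ∀ B : GL (Fin 2) F, ∃ s : Matrix.SpecialLinearGroup (Fin 2) F, cj B (t2 F) = s * t2 F * s⁻¹ := by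
      intro B
      have hB0 : (B : Matrix (Fin 2) (Fin 2) F).det ≠ 0 := (Matrix.isUnits_det_units B).ne_zero
      -- a square root of the determinant
      obtain ⟨c, hc⟩ : ∃ c : F, c ^ 2 = (B : Matrix (Fin 2) (Fin 2) F).det := by
        obtain ⟨c, hc⟩ := (PerfectRing.bijective_frobenius (R := F) (p := 2)).2
          (B : Matrix (Fin 2) (Fin 2) F).det
        exact ⟨c, hc⟩
      have hc0 : c ≠ 0 := by rintro rfl; exact hB0 (by rw [← hc]; simp)
      let u : Fˣ := Units.mk0 c hc0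
      have h1 : (((Matrix.GeneralLinearGroup.scalar (Fin 2) u)⁻¹ * B : GL (Fin 2) F) :
          Matrix (Fin 2) (Fin 2) F).det = 1 := by
        have h2 : ((Matrix.GeneralLinearGroup.scalar (Fin 2) u : GL (Fin 2) F) : Matrix (Fin 2) (Fin 2) F).det =
            c ^ 2 := by
          show (Matrix.scalar (Fin 2) c).det = c ^ 2
          simp
        have h5 : ((Matrix.GeneralLinearGroup.scalar (Fin 2) u *
            ((Matrix.GeneralLinearGroup.scalar (Fin 2) u)⁻¹ * B) : GL (Fin 2) F) :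
            Matrix (Fin 2) (Fin 2) F).det = c ^ 2 := by
          rw [mul_inv_cancel_left, hc]
        rw [Units.val_mul, det_mul, h2] at h5
        have h6 : c ^ 2 ≠ 0 := pow_ne_zero 2 hc0
        apply mul_left_cancel₀ h6
        rw [h5, mul_one]
      have h3 : cj B = cj ((Matrix.GeneralLinearGroup.scalar (Fin 2) u)⁻¹ * B) := by
        rw [map_mul, map_inv, cj_eq_one_of_scalar (C := Matrix.GeneralLinearGroup.scalar (Fin 2) u) (r := c) rfl,
          inv_one, one_mul]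
      let s : Matrix.SpecialLinearGroup (Fin 2) F := ⟨_, h1⟩
      refine ⟨s, ?_⟩
      rw [h3]
      apply Subtype.ext
      rw [coe_cj, Matrix.SpecialLinearGroup.coe_mul, Matrix.SpecialLinearGroup.coe_mul]
      congr 1
      rw [Matrix.SpecialLinearGroup.coe_inv, Matrix.coe_units_inv, Matrix.inv_def, h1]
      simp [s]
    have hfld : ∀ σ : F ≃+* F, fld σ (t2 F) = t2 F := by
      intro σ
      apply Subtype.ext
      ext i j
      rw [coe_fld_apply, coe_t2]
      fin_cases i <;> fin_cases j <;> simp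
    obtain ⟨B, σ, rfl⟩ := surj_two 2 α
    obtain ⟨s, hs⟩ := key B
    refine ⟨pr s, ?_⟩
    rw [lift_pr]
    have : (cj B * fld σ : MulAut (Matrix.SpecialLinearGroup (Fin 2) F)) (t2 F) = cj B (fld σ (t2 F)) := rfl
    rw [this, hfld, hs, map_mul, map_mul, map_inv]

end PSL

end Cfsg.Agent.H375
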